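import Cfsg.Agent.Lib.Helper12.TC.SuzP3x2160.Rel0
import Cfsg.Agent.Lib.Helper12.TC.SuzP3x2160.Rel1
import Cfsg.Agent.Lib.Helper12.TC.SuzP3Pres

/-! the permutation representation for SuzP3x2160 (generated, helper12) -/

set_option autoImplicit false
set_option maxRecDepth 100000
set_option linter.unusedSimpArgs false

namespace Cfsg.Agent.Lib.Helper12.TC.SuzP3x2160

open Cfsg.Agent.Lib.Helper12.TC Cfsg.Agent.Lib.Helper12.TC.SuzP3Pres

theorem hperm : Fn.permK TT 4 cN = true := by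
  refine Fn.permK_of_ones (fun x hx => ?_)
  interval_cases x
  · exact hperm0
  · exact hperm1
  · exact hperm2
  · exact hperm3

/-- words as powers -/
def specs : List (List ℕ × ℕ) :=
  [([0, 1], 5),
   ([0, 2], 2),
   ([1, 2], 3),
   ([0, 3], 2),
   ([1, 3], 2),
   ([2, 3], 8),
   ([0, 3, 2, 3, 2, 3, 2, 3, 2], 1)]

theorem hspecs : coxWords Cfsg.Agent.Lib.Helper12.Ord.SuzP3.edges gen 4 ++ extraWords =
    specs.map (fun s => wpow s.1 s.2) := by
  decide +kernel

theorem hfixall : Fn.FixAll TT cN specs :=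
  Fn.fixAll_cons (Fn.fix_of_marksK hm0)
    (Fn.fixAll_cons (Fn.fix_of_marksK hm1)
    (Fn.fixAll_cons (Fn.fix_of_marksK hm2)
    (Fn.fixAll_cons (Fn.fix_of_marksK hm3)
    (Fn.fixAll_cons (Fn.fix_of_marksK hm4)
    (Fn.fixAll_cons (Fn.fix_of_marksK hm5)
    (Fn.fixAll_cons (Fn.fix_of_marksK hm6)
    (Fn.fixAll_nil TT cN)))))))

theorem hrels : Fn.relsK TT cN (coxWords Cfsg.Agent.Lib.Helper12.Ord.SuzP3.edges gen 4 ++ extraWords) = true := by
  rw [hspecs]
  exact Fn.relsK_of_fixAll hfixall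

theorem hsub : Fn.subK TT 4 sw = true := by decide +kernel

theorem htrans : Fn.transK TT 4 cN sw = true := by decide +kernel

end Cfsg.Agent.Lib.Helper12.TC.SuzP3x2160
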